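import Mathlib.RingTheory.Flat.Basic
import Mathlib.LinearAlgebra.TensorProduct.RightExactness
import Mathlib.RingTheory.TensorProduct.Free
import Groth.Agent.H3CAlg.ArtinFlat

/-! Minimal covers modulo a nilpotent ideal and flat base change (EGA IV 11.1, 11.4). -/

set_option autoImplicit false

open TensorProduct

namespace Groth.Agent.H06Flat

universe u

variable {A : Type u} [CommRing A] {J : Ideal A}
  {F M : Type u} [AddCommGroup F] [Module A F] [AddCommGroup M] [Module A M]

theorem tmul_mem_smul_top (A' : Type u) [CommRing A'] [Algebra A A'] {x : F}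
    (hx : x ∈ J • (⊤ : Submodule A F)) (a : A') :
    a ⊗ₜ[A] x ∈ J.map (algebraMap A A') • (⊤ : Submodule A' (A' ⊗[A] F)) := by
  induction hx using Submodule.smul_induction_on' with
  | smul r hr y _ =>
    rw [tmul_smul, ← algebraMap_smul A' r]
    exact Submodule.smul_mem_smul (Ideal.mem_map_of_mem _ hr) Submodule.mem_top
  | add y _ z _ hy hz => rw [tmul_add]; exact add_mem hy hz

/-- A surjection with kernel in `J • ⊤` becomes bijective over every algebra making the target flat. -/
theorem baseChange_bijective (hJ : IsNilpotent J) (π : F →ₗ[A] M) (hπ : Function.Surjective π)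
    (hker : LinearMap.ker π ≤ J • ⊤) (A' : Type u) [CommRing A'] [Algebra A A']
    [Module.Flat A' (A' ⊗[A] M)] : Function.Bijective (π.baseChange A') := by
  let π' := π.baseChange A'
  have hs : Function.Surjective π' := by
    have := LinearMap.lTensor_surjective A' hπ
    rwa [← LinearMap.baseChange_eq_ltensor] at this
  refine ⟨?_, hs⟩
  let J' := J.map (algebraMap A A')
  have hk : LinearMap.ker π' ≤ J' • ⊤ := by
    intro z hz
    have hex := lTensor_exact A' (LinearMap.exact_subtype_ker_map π) hπ
    have hz' : π.lTensor A' z = 0 := by rw [← LinearMap.baseChange_eq_ltensor]; exact hz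
    obtain ⟨w, rfl⟩ := (hex z).mp hz'
    induction w using TensorProduct.induction_on with
    | zero => simp
    | tmul a x => exact tmul_mem_smul_top A' (hker x.2) a
    | add u v hu hv =>
      rw [map_add]
      refine add_mem (hu ?_ ?_) (hv ?_ ?_) <;>
      · first
        | exact LinearMap.mem_ker.mpr (by
            rw [LinearMap.baseChange_eq_ltensor, ← LinearMap.comp_apply, ← LinearMap.lTensor_comp,
              LinearMap.comp_ker_subtype, LinearMap.lTensor_zero]; rfl)
        | rw [← LinearMap.comp_apply, ← LinearMap.lTensor_comp,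
              LinearMap.comp_ker_subtype, LinearMap.lTensor_zero]; rfl
  have hJ' : IsNilpotent J' := by
    obtain ⟨n, hn⟩ := hJ
    exact ⟨n, by rw [← Ideal.map_pow, hn, Submodule.zero_eq_bot, Ideal.map_bot, Submodule.zero_eq_bot]⟩
  have hinj : Function.Injective ((LinearMap.ker π').subtype.lTensor (A' ⧸ J')) :=
    LinearMap.lTensor_injective_of_exact_of_flat π' hs _ (Submodule.injective_subtype _)
      (LinearMap.exact_subtype_ker_map π') (A' ⧸ J')
  have hzero : (LinearMap.ker π').subtype.lTensor (A' ⧸ J') = 0 := by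
    apply TensorProduct.ext'
    intro c x
    rw [LinearMap.lTensor_tmul, LinearMap.zero_apply]
    have : ∀ y ∈ J' • (⊤ : Submodule A' (A' ⊗[A] F)), c ⊗ₜ[A'] y = 0 := by
      intro y hy
      induction hy using Submodule.smul_induction_on' with
      | smul r hr y _ =>
        rw [← smul_tmul, show r • c = 0 by
          rw [Algebra.smul_def, Ideal.Quotient.algebraMap_eq, Ideal.Quotient.eq_zero_iff_mem.mpr hr,
            zero_mul], zero_tmul]
      | add y _ z _ hy hz => rw [tmul_add, hy, hz, add_zero]
    exact this _ (hk x.2)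
  have : Subsingleton ((A' ⧸ J') ⊗[A'] LinearMap.ker π') :=
    ⟨fun a b => hinj (by rw [hzero]; rfl)⟩
  have := H3CAlg.subsingleton_of_quot_tensor J' hJ' (LinearMap.ker π')
  exact LinearMap.ker_eq_bot.mp (Submodule.subsingleton_iff_eq_bot.mp this)

theorem one_tmul_eq_zero (hJ : IsNilpotent J) (π : F →ₗ[A] M) (hπ : Function.Surjective π)
    (hker : LinearMap.ker π ≤ J • ⊤) (A' : Type u) [CommRing A'] [Algebra A A']
    [Module.Flat A' (A' ⊗[A] M)] {x : F} (hx : π x = 0) : (1 : A') ⊗ₜ[A] x = 0 :=
  (baseChange_bijective hJ π hπ hker A').1 (by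
    rw [LinearMap.baseChange_tmul, hx, tmul_zero, map_zero])

theorem baseChange_injective_of_forall (π : F →ₗ[A] M) (hπ : Function.Surjective π)
    (A' : Type u) [CommRing A'] [Algebra A A']
    (h : ∀ x, π x = 0 → ∀ a : A', a ⊗ₜ[A] x = 0) : Function.Injective (π.baseChange A') := by
  refine (injective_iff_map_eq_zero _).mpr fun z hz => ?_
  rw [LinearMap.baseChange_eq_ltensor] at hz
  obtain ⟨w, rfl⟩ := (lTensor_exact A' (LinearMap.exact_subtype_ker_map π) hπ z).mp hz
  clear hz
  induction w using TensorProduct.induction_on with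
  | zero => simp
  | add u v hu hv => rw [map_add, hu, hv, add_zero]
  | tmul a x => exact h _ x.2 a

theorem finsupp_apply_map_eq_zero {ι : Type u} (A' : Type u) [CommRing A'] [Algebra A A']
    {x : ι →₀ A} (hx : (1 : A') ⊗ₜ[A] x = 0) (i : ι) : algebraMap A A' (x i) = 0 := by
  have := congrArg ((TensorProduct.rid A A').toLinearMap ∘ₗ (Finsupp.lapply i).lTensor A') hx
  simpa [Algebra.smul_def] using this

/-- Jointly injective family of algebras making `M` flat: a minimal projective cover is bijective. -/
theorem injective_of_family [Module.Projective A F] (hJ : IsNilpotent J) (π : F →ₗ[A] M)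
    (hπ : Function.Surjective π) (hker : LinearMap.ker π ≤ J • ⊤)
    {ι : Type u} (B : ι → Type u) [∀ i, CommRing (B i)] [∀ i, Algebra A (B i)]
    (hB : ∀ a : A, (∀ i, algebraMap A (B i) a = 0) → a = 0)
    (hflat : ∀ i, Module.Flat (B i) (B i ⊗[A] M)) : Function.Bijective π := by
  refine ⟨(injective_iff_map_eq_zero _).mpr fun x hx => ?_, hπ⟩
  obtain ⟨s, hs⟩ := Module.projective_def.mp ‹Module.Projective A F›
  apply hs.injective
  rw [map_zero]
  ext f
  refine hB _ fun i => ?_
  have := hflat i
  have h0 := congrArg (s.lTensor (B i)) (one_tmul_eq_zero hJ π hπ hker (B i) hx)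
  rw [LinearMap.lTensor_tmul, map_zero] at h0
  exact finsupp_apply_map_eq_zero (B i) h0 f

/-- A cover with free source lifting a basis of `M / J M`. -/
theorem exists_free_cover (hJ : IsNilpotent J) [Module.Free (A ⧸ J) ((A ⧸ J) ⊗[A] M)] :
    ∃ (ι : Type u) (π : (ι →₀ A) →ₗ[A] M),
      Function.Surjective π ∧ LinearMap.ker π ≤ J • ⊤ := by
  let b := Module.Free.chooseBasis (A ⧸ J) ((A ⧸ J) ⊗[A] M)
  have hm : Function.Surjective (fun m : M => (1 : A ⧸ J) ⊗ₜ[A] m) :=
    TensorProduct.mk_surjective A M (A ⧸ J) Ideal.Quotient.mk_surjective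
  choose x hx using fun i => hm (b i)
  let π := Finsupp.linearCombination A x
  have key : ∀ c : Module.Free.ChooseBasisIndex (A ⧸ J) ((A ⧸ J) ⊗[A] M) →₀ A,
      (1 : A ⧸ J) ⊗ₜ[A] π c =
        b.repr.symm (c.mapRange (Ideal.Quotient.mk J) (map_zero _)) := by
    intro c
    induction c using Finsupp.induction_linear with
    | zero => simp
    | add u v hu hv =>
      rw [map_add, tmul_add, hu, hv, Finsupp.mapRange_add (map_add _), map_add]
    | single i a =>
      rw [Finsupp.linearCombination_single, Finsupp.mapRange_single, Module.Basis.repr_symm_single,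
        tmul_smul, ← algebraMap_smul (A ⧸ J) a, Ideal.Quotient.algebraMap_eq]
      exact congrArg _ (hx i)
  refine ⟨_, π, H3CAlg.surjective_of_lTensor_quot J hJ π ?_, fun c hc => ?_⟩
  · intro z
    obtain ⟨c, hc⟩ := Finsupp.mapRange_surjective (Ideal.Quotient.mk J) (map_zero _)
      Ideal.Quotient.mk_surjective (b.repr z)
    exact ⟨1 ⊗ₜ c, by rw [LinearMap.lTensor_tmul, key, hc, LinearEquiv.symm_apply_apply]⟩
  · have h0 := key c
    rw [LinearMap.mem_ker.mp hc, tmul_zero, eq_comm, LinearEquiv.map_eq_zero_iff] at h0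
    rw [← c.sum_single]
    refine Submodule.sum_mem _ fun i _ => ?_
    have hi : c i ∈ J := Ideal.Quotient.eq_zero_iff_mem.mp (by simpa using DFunLike.congr_fun h0 i)
    have : Finsupp.single i (c i) = c i • Finsupp.single i (1 : A) := by simp
    rw [show (Finsupp.single i (c i) : _ →₀ A) = c i • Finsupp.single i (1 : A) from this]
    exact Submodule.smul_mem_smul hi Submodule.mem_top

end Groth.Agent.H06Flat
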