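import Groth.Agent.H06Flat.InjDescent
import Mathlib.RingTheory.Filtration
import Mathlib.RingTheory.AdicCompletion.Basic
import Mathlib.RingTheory.Localization.BaseChange
import Mathlib.RingTheory.Localization.Ideal
import Mathlib.RingTheory.Ideal.AssociatedPrime.Finiteness
import Mathlib.LinearAlgebra.TensorProduct.Quotient

/-! Ideally separated modules (EGA 0III 10.2) and flatness at associated primes. -/

set_option autoImplicit false

open TensorProduct

namespace Groth.Agent.H06Flat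

universe u

variable {A : Type u} [CommRing A] [IsNoetherianRing A] (J : Ideal A)
  (M : Type u) [AddCommGroup M] [Module A M]

theorem flat_of_isIdeallySeparated (hsep : ∀ a : Ideal A, IsHausdorff J (↥a ⊗[A] M))
    (h : ∀ n : ℕ, Module.Flat (A ⧸ J ^ n) ((A ⧸ J ^ n) ⊗[A] M)) : Module.Flat A M := by
  refine Module.Flat.iff_lTensor_injective'.mpr fun a => ?_
  refine (injective_iff_map_eq_zero _).mpr fun z hz => ?_
  apply (TensorProduct.comm A M a).injective
  rw [map_zero]
  refine (hsep a).haus _ fun n => ?_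
  rw [SModEq.zero]
  obtain ⟨c, hc⟩ := J.exists_pow_inf_eq_pow_smul (M := A) a
  haveI := h (n + c)
  let q : a →ₗ[A] A ⧸ J ^ (n + c) := (Submodule.mkQ _) ∘ₗ a.subtype
  have hq0 : q.rangeRestrict.lTensor M z = 0 :=
    H7Flat.lTensor_subtype_injective_of_flat_quotient (M := M) (J ^ (n + c)) (LinearMap.range q) (by
      rw [map_zero, ← LinearMap.lTensor_comp_apply,
        show (LinearMap.range q).subtype ∘ₗ q.rangeRestrict = q from rfl,
        show q = (Submodule.mkQ _) ∘ₗ a.subtype from rfl, LinearMap.lTensor_comp_apply, hz, map_zero])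
  have hexq : Function.Exact (LinearMap.ker q).subtype q.rangeRestrict := fun y =>
    ⟨fun hy => ⟨⟨y, LinearMap.mem_ker.mpr (congrArg Subtype.val hy)⟩, rfl⟩,
      fun ⟨y', hy'⟩ => hy' ▸ Subtype.ext (LinearMap.mem_ker.mp y'.2)⟩
  have hex := @lTensor_exact A ↥(LinearMap.ker q) a ↥(LinearMap.range q) _ _ _ _ _ _ _
    (LinearMap.ker q).subtype q.rangeRestrict M _ _ hexq q.surjective_rangeRestrict
  obtain ⟨w, rfl⟩ := (hex z).mp hq0
  clear hz hq0
  induction w with
  | zero => simp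
  | add u v hu hv => rw [map_add, map_add]; exact add_mem hu hv
  | tmul m x =>
    have hx : ((x : a) : A) ∈ J ^ (n + c) := (Submodule.Quotient.mk_eq_zero _).mp x.2
    have h2 : (x : a) ∈ J ^ n • (⊤ : Submodule A a) := by
      rw [Submodule.mem_smul_top_iff]
      have h3 : ((x : a) : A) ∈ J ^ (n + c) • (⊤ : Submodule A A) ⊓ a :=
        ⟨by simpa using hx, (x : a).2⟩
      rw [hc (n + c) (by omega), Nat.add_sub_cancel] at h3
      exact Submodule.smul_mono le_rfl inf_le_right h3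
    rw [LinearMap.lTensor_tmul, TensorProduct.comm_tmul]
    have h4 := Submodule.mem_map_of_mem (f := (TensorProduct.mk A a M).flip m) h2
    rw [Submodule.map_smul''] at h4
    exact (Submodule.smul_mono le_rfl le_top :
      J ^ n • Submodule.map ((TensorProduct.mk A a M).flip m) ⊤ ≤ _) h4

omit [IsNoetherianRing A] in
theorem exists_notMem_of_forall (S : Set (Ideal A)) (hS : S.Finite)
    (hp : ∀ p ∈ S, p.IsPrime) (I : Ideal A) (h : ∀ p ∈ S, ¬ I ≤ p) :
    ∃ s ∈ I, ∀ p ∈ S, s ∉ p := by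
  classical
  by_contra! hcon
  have hsub : (I : Set A) ⊆ ⋃ p ∈ (↑hS.toFinset : Set (Ideal A)), (p : Set A) := fun s hs => by
    obtain ⟨p, hp, hsp⟩ := hcon s hs
    exact Set.mem_biUnion (Finset.mem_coe.mpr (hS.mem_toFinset.mpr hp)) hsp
  obtain ⟨p, hp', hle⟩ := (Ideal.subset_union_prime (f := fun p : Ideal A => p) ⊥ ⊥
    fun p hp' _ _ => hp p (hS.mem_toFinset.mp hp')).mp hsub
  exact h p (hS.mem_toFinset.mp hp') hle

omit [IsNoetherianRing A] in
theorem mem_pow_of_smul_mem (hgr : ∀ k : ℕ, Module.Flat (A ⧸ J) ((A ⧸ J) ⊗[A] ↥(J ^ k)))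
    {s : A} (hs : ∀ a, s * a ∈ J → a ∈ J) : ∀ (k : ℕ) (a : A), s * a ∈ J ^ k → a ∈ J ^ k := by
  intro k
  induction k with
  | zero => intro a _; simp
  | succ k ih =>
    intro a ha
    have hak : a ∈ J ^ k := ih a (Ideal.pow_le_pow_right k.le_succ ha)
    let e := TensorProduct.quotTensorEquivQuotSMul (↥(J ^ k)) J
    have hmk : ∀ y : ↥(J ^ k), (y : A) ∈ J ^ (k + 1) ↔ (1 : A ⧸ J) ⊗ₜ[A] y = 0 := by
      intro y
      rw [← e.map_eq_zero_iff, show (1 : A ⧸ J) = Ideal.Quotient.mk _ 1 from rfl,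
        TensorProduct.quotTensorEquivQuotSMul_mk_tmul, one_smul, Submodule.Quotient.mk_eq_zero,
        Submodule.mem_smul_top_iff, Ideal.smul_eq_mul, ← pow_succ']
    refine (hmk ⟨a, hak⟩).mpr ?_
    have h1 := (hmk (s • ⟨a, hak⟩)).mp (by simpa using ha)
    haveI := hgr k
    have hreg : IsSMulRegular ((A ⧸ J) ⊗[A] ↥(J ^ k)) (Ideal.Quotient.mk J s) := by
      have hinj : Function.Injective (LinearMap.mulLeft (A ⧸ J) (Ideal.Quotient.mk J s)) := by
        refine (injective_iff_map_eq_zero _).mpr fun y hy => ?_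
        obtain ⟨y, rfl⟩ := Ideal.Quotient.mk_surjective y
        rw [LinearMap.mulLeft_apply, ← map_mul, Ideal.Quotient.eq_zero_iff_mem] at hy
        exact Ideal.Quotient.eq_zero_iff_mem.mpr (hs y hy)
      have h2 := Module.Flat.rTensor_preserves_injective_linearMap
        (M := (A ⧸ J) ⊗[A] ↥(J ^ k)) _ hinj
      intro x y hxy
      apply (TensorProduct.lid (A ⧸ J) _).symm.injective
      apply h2
      simp only [TensorProduct.lid_symm_apply, LinearMap.rTensor_tmul, LinearMap.mulLeft_apply,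
        mul_one]
      have := congrArg (TensorProduct.lid (A ⧸ J) ((A ⧸ J) ⊗[A] ↥(J ^ k))).symm hxy
      simp only [TensorProduct.lid_symm_apply, tmul_smul] at this
      rw [smul_tmul', smul_tmul', smul_eq_mul, mul_one] at this
      exact this
    refine hreg ?_
    simp only [smul_zero]
    rw [← Ideal.Quotient.algebraMap_eq, algebraMap_smul, ← tmul_smul]
    exact h1

theorem flat_quotient_pow (hgr : ∀ k : ℕ, Module.Flat (A ⧸ J) ((A ⧸ J) ⊗[A] ↥(J ^ k)))
    [Module.Flat (A ⧸ J) ((A ⧸ J) ⊗[A] M)]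
    (hloc : ∀ q ∈ associatedPrimes A (A ⧸ J), ∀ [q.IsPrime],
      Module.Flat (Localization.AtPrime q) (Localization.AtPrime q ⊗[A] M))
    (n : ℕ) : Module.Flat (A ⧸ J ^ (n + 1)) ((A ⧸ J ^ (n + 1)) ⊗[A] M) := by
  have hfin := associatedPrimes.finite A (A ⧸ J)
  haveI : Finite ↥(associatedPrimes A (A ⧸ J)) := hfin
  haveI : ∀ q : ↥(associatedPrimes A (A ⧸ J)), q.1.IsPrime := fun q =>
    IsAssociatedPrime.isPrime q.2
  let R := A ⧸ J ^ (n + 1)
  let L : ↥(associatedPrimes A (A ⧸ J)) → Type u := fun q => Localization.AtPrime q.1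
  let B : ↥(associatedPrimes A (A ⧸ J)) → Type u := fun q =>
    L q ⧸ (J ^ (n + 1)).map (algebraMap A (L q))
  letI : ∀ q, Algebra R (B q) := fun q =>
    (Ideal.Quotient.lift (J ^ (n + 1)) (algebraMap A (B q)) fun a ha => by
      rw [IsScalarTower.algebraMap_apply A (L q) (B q)]
      exact Ideal.Quotient.eq_zero_iff_mem.mpr (Ideal.mem_map_of_mem _ ha)).toAlgebra
  haveI : ∀ q, IsScalarTower A R (B q) := fun q => .of_algebraMap_eq fun a => rfl
  let J' : Ideal R := J.map (Ideal.Quotient.mk _)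
  have hJ' : IsNilpotent J' :=
    ⟨n + 1, by rw [← Ideal.map_pow, Submodule.zero_eq_bot, Ideal.map_quotient_self]⟩
  let φ : A ⧸ J →+* R ⧸ J' := Ideal.Quotient.lift J (algebraMap A _) fun a ha => by
    rw [IsScalarTower.algebraMap_apply A R (R ⧸ J')]
    exact Ideal.Quotient.eq_zero_iff_mem.mpr (Ideal.mem_map_of_mem _ ha)
  letI := φ.toAlgebra
  haveI : IsScalarTower A (A ⧸ J) (R ⧸ J') := .of_algebraMap_eq fun a => rfl
  haveI : Module.Flat (R ⧸ J') ((R ⧸ J') ⊗[R] (R ⊗[A] M)) :=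
    flat_baseChange_two (A := A) R (A ⧸ J) (R ⧸ J') M
  refine flat_of_jointly_injective J' hJ' B ?_ (R ⊗[A] M) fun q => ?_
  · intro r hr
    obtain ⟨a, rfl⟩ := Ideal.Quotient.mk_surjective r
    refine Ideal.Quotient.eq_zero_iff_mem.mpr ?_
    let I : Ideal A := Submodule.comap (LinearMap.mulRight A a) (J ^ (n + 1))
    obtain ⟨s, hsI, hs⟩ := exists_notMem_of_forall (associatedPrimes A (A ⧸ J)) hfin
      (fun p hp => IsAssociatedPrime.isPrime hp) I (fun p hp hle => by
        haveI := IsAssociatedPrime.isPrime hp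
        have h0 : algebraMap A (L ⟨p, hp⟩) a ∈ (J ^ (n + 1)).map (algebraMap A (L ⟨p, hp⟩)) :=
          Ideal.Quotient.eq_zero_iff_mem.mp (hr ⟨p, hp⟩)
        obtain ⟨t, ht, hta⟩ := (IsLocalization.algebraMap_mem_map_algebraMap_iff p.primeCompl
          (L ⟨p, hp⟩) _ _).mp h0
        exact ht (hle (show t * a ∈ J ^ (n + 1) from hta)))
    refine mem_pow_of_smul_mem J hgr (s := s) (fun b hb => ?_) (n + 1) a hsI
    by_contra hbJ
    have hz : s ∈ ⋃ p ∈ associatedPrimes A (A ⧸ J), (p : Set A) := by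
      rw [biUnion_associatedPrimes_eq_zero_divisors]
      refine ⟨Ideal.Quotient.mk J b, fun h => hbJ (Ideal.Quotient.eq_zero_iff_mem.mp h), ?_⟩
      rw [Algebra.smul_def, Ideal.Quotient.algebraMap_eq, ← map_mul]
      exact Ideal.Quotient.eq_zero_iff_mem.mpr hb
    simp only [Set.mem_iUnion] at hz
    obtain ⟨p, hp, hsp⟩ := hz
    exact hs p hp hsp
  · haveI := hloc q.1 q.2
    exact flat_baseChange_two (A := A) R (L q) (B q) M

end Groth.Agent.H06Flat
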