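import Groth.Agent.H7Flat.FibreCriterion
import Mathlib.LinearAlgebra.TensorProduct.Pi
import Mathlib.Algebra.Module.Torsion.Basic

/-! Flatness descends along an injective map into a finite family, given flatness modulo a
nilpotent ideal (EGA IV 11.4). -/

set_option autoImplicit false

open TensorProduct

namespace Groth.Agent.H06Flat

universe u

variable {A : Type u} [CommRing A]

theorem rTensor_restrictScalars_injective {B : Type u} [CommRing B] [Algebra A B] (M : Type u)
    [AddCommGroup M] [Module A M] [Module.Flat B (B ⊗[A] M)] {P Q : Type u} [AddCommGroup P]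
    [Module A P] [Module B P] [IsScalarTower A B P] [AddCommGroup Q] [Module A Q] [Module B Q]
    [IsScalarTower A B Q] (f : P →ₗ[B] Q) (hf : Function.Injective f) :
    Function.Injective ((f.restrictScalars A).rTensor M) := by
  let e (P : Type u) [AddCommGroup P] [Module A P] [Module B P] [IsScalarTower A B P] :=
    AlgebraTensorModule.cancelBaseChange A B B P M
  have key : ∀ x, e Q (f.rTensor (B ⊗[A] M) x) = (f.restrictScalars A).rTensor M (e P x) := by
    intro x
    induction x with
    | zero => simp
    | tmul p q =>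
      induction q with
      | zero => simp
      | tmul a m => simp [e]
      | add q q' hq hq' => simp only [tmul_add, map_add, hq, hq']
    | add x y hx hy => simp only [map_add, hx, hy]
  intro x y h
  obtain ⟨x, rfl⟩ := (e P).surjective x
  obtain ⟨y, rfl⟩ := (e P).surjective y
  rw [← key, ← key] at h
  exact congrArg _ (Module.Flat.rTensor_preserves_injective_linearMap f hf ((e Q).injective h))

theorem flat_baseChange_two (B B' D : Type u) [CommRing B] [CommRing B'] [CommRing D] [Algebra A B]
    [Algebra A B'] [Algebra A D] [Algebra B D] [Algebra B' D] [IsScalarTower A B D]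
    [IsScalarTower A B' D] (M : Type u) [AddCommGroup M] [Module A M]
    [Module.Flat B' (B' ⊗[A] M)] : Module.Flat D (D ⊗[B] (B ⊗[A] M)) :=
  Module.Flat.of_linearEquiv
    ((AlgebraTensorModule.cancelBaseChange A B D D M).trans
      (AlgebraTensorModule.cancelBaseChange A B' D D M).symm)

theorem flat_of_quotient_bot {J : Ideal A} (hJ : J = ⊥) (M : Type u) [AddCommGroup M] [Module A M]
    [Module.Flat (A ⧸ J) ((A ⧸ J) ⊗[A] M)] : Module.Flat A M := by
  subst hJ
  refine Module.Flat.iff_lTensor_injective'.mpr fun I => ?_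
  letI : Module (A ⧸ (⊥ : Ideal A)) A :=
    ((RingEquiv.quotientBot A).toRingHom.toAlgebra).toModule
  haveI : IsScalarTower A (A ⧸ (⊥ : Ideal A)) A := .of_algebraMap_smul fun r x => rfl
  exact H7Flat.lTensor_subtype_injective_of_flat_quotient (⊥ : Ideal A) I

set_option maxHeartbeats 400000 in
theorem flat_of_jointly_injective_aux : ∀ (m : ℕ) (A : Type u) [CommRing A] (J : Ideal A)
    (_ : J ^ (m + 1) = ⊥) {ι : Type u} [Finite ι] (B : ι → Type u) [∀ i, CommRing (B i)]
    [∀ i, Algebra A (B i)] (_ : ∀ a : A, (∀ i, algebraMap A (B i) a = 0) → a = 0)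
    (M : Type u) [AddCommGroup M] [Module A M] [Module.Flat (A ⧸ J) ((A ⧸ J) ⊗[A] M)]
    (_ : ∀ i, Module.Flat (B i) (B i ⊗[A] M)), Module.Flat A M := by
  intro m
  induction m with
  | zero =>
    intro A _ J hJ ι _ B _ _ _ M _ _ _ _
    exact flat_of_quotient_bot (J := J) (by simpa using hJ) M
  | succ m ih =>
    intro A _ J hJ ι _ B _ _ hB M _ _ _ hflat
    classical
    haveI := Fintype.ofFinite ι
    let I : ∀ i, Ideal (B i) := fun i => (J ^ (m + 1)).map (algebraMap A (B i))
    let K : Ideal A := ⨅ i, (I i).comap (algebraMap A (B i))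
    have hKmem : ∀ a, a ∈ K ↔ ∀ i, algebraMap A (B i) a ∈ I i := fun a => by simp [K]
    have hJI : ∀ i, ∀ a ∈ J, ∀ x ∈ I i, algebraMap A (B i) a * x = 0 := by
      intro i a ha x hx
      have : algebraMap A (B i) a * x ∈ (J ^ (m + 1 + 1)).map (algebraMap A (B i)) := by
        rw [pow_succ', Ideal.map_mul]
        exact Ideal.mul_mem_mul (Ideal.mem_map_of_mem _ ha) hx
      rwa [hJ, Ideal.map_bot, Ideal.mem_bot] at this
    have hJm : J ^ (m + 1) ≤ K := fun a ha => (hKmem a).mpr fun i => Ideal.mem_map_of_mem _ ha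
    have hK2 : IsNilpotent K := by
      refine ⟨2, ?_⟩
      rw [Submodule.zero_eq_bot, eq_bot_iff, pow_two, Ideal.mul_le]
      intro a ha b hb
      refine Ideal.mem_bot.mpr (hB _ fun i => ?_)
      have : algebraMap A (B i) a * algebraMap A (B i) b ∈ (J ^ ((m + 1) + (m + 1))).map (algebraMap A (B i)) := by
        rw [pow_add, Ideal.map_mul]
        exact Ideal.mul_mem_mul ((hKmem a).mp ha i) ((hKmem b).mp hb i)
      rw [show (m + 1) + (m + 1) = (m + 1 + 1) + m by omega, pow_add, hJ, Ideal.bot_mul,
        Ideal.map_bot, Ideal.mem_bot] at this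
      rw [map_mul, this]
    have hinj : Function.Injective (K.subtype.lTensor M) := by
      let g : K →ₗ[A] ∀ i, I i := LinearMap.pi fun i =>
        ((Algebra.linearMap A (B i)) ∘ₗ K.subtype).codRestrict ((I i).restrictScalars A)
          fun a => (hKmem a.1).mp a.2 i
      have hg : Function.Injective g := (injective_iff_map_eq_zero _).mpr fun a ha =>
        Subtype.ext (hB _ fun i => congrArg Subtype.val (congrFun ha i))
      have htor : Module.IsTorsionBySet A (∀ i, I i) (J : Set A) := fun x a => by
        ext i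
        show (a.1 • (x i : B i)) = 0
        rw [Algebra.smul_def]; exact hJI i a.1 a.2 _ (x i).2
      letI : Module (A ⧸ J) (∀ i, I i) := htor.module
      haveI : IsScalarTower A (A ⧸ J) (∀ i, I i) := htor.isScalarTower
      have h1 : Function.Injective (g.lTensor M) := by
        have e : g = (LinearMap.range g).subtype ∘ₗ (LinearEquiv.ofInjective g hg).toLinearMap := rfl
        rw [e, LinearMap.lTensor_comp]
        exact (H7Flat.lTensor_subtype_injective_of_flat_quotient (M := M) J
          (LinearMap.range g)).comp (LinearEquiv.lTensor M _).injective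
      let j : ∀ i, I i →ₗ[A] B i := fun i => (Submodule.subtype (I i)).restrictScalars A
      have h2 : ∀ i, Function.Injective ((j i).lTensor M) := fun i => by
        rw [LinearMap.lTensor_inj_iff_rTensor_inj]
        haveI := hflat i
        exact rTensor_restrictScalars_injective M (Submodule.subtype (I i)) Subtype.val_injective
      refine (injective_iff_map_eq_zero _).mpr fun x hx => h1 ?_
      rw [map_zero]
      apply (TensorProduct.piRight A A M (fun i => I i)).injective
      rw [map_zero]
      ext1 i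
      refine h2 i ?_
      rw [Pi.zero_apply, map_zero]
      have hpr : ∀ z, TensorProduct.piRight A A M (fun i => I i) z i
          = (LinearMap.proj i).lTensor M z := by
        intro z
        induction z with
        | zero => simp
        | tmul m f => simp
        | add a b ha hb => simp only [map_add, Pi.add_apply, ha, hb]
      rw [hpr, ← LinearMap.lTensor_comp_apply, ← LinearMap.lTensor_comp_apply, LinearMap.comp_assoc,
        show j i ∘ₗ LinearMap.proj i ∘ₗ g = Algebra.linearMap A (B i) ∘ₗ K.subtype from rfl,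
        LinearMap.lTensor_comp_apply, hx, map_zero]
    let J' : Ideal (A ⧸ K) := J.map (Ideal.Quotient.mk K)
    have hJ' : J' ^ (m + 1) = ⊥ := by
      rw [← Ideal.map_pow, Ideal.map_eq_bot_iff_le_ker, Ideal.mk_ker]; exact hJm
    let C : ι → Type u := fun i => B i ⧸ I i
    letI : ∀ i, Algebra (A ⧸ K) (C i) := fun i =>
      (Ideal.Quotient.lift K (algebraMap A (C i)) fun a ha => by
        rw [IsScalarTower.algebraMap_apply A (B i) (C i)]
        exact Ideal.Quotient.eq_zero_iff_mem.mpr ((hKmem a).mp ha i)).toAlgebra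
    haveI : ∀ i, IsScalarTower A (A ⧸ K) (C i) := fun i => .of_algebraMap_eq fun a => rfl
    have hC : ∀ a : A ⧸ K, (∀ i, algebraMap (A ⧸ K) (C i) a = 0) → a = 0 := by
      intro a ha
      obtain ⟨a, rfl⟩ := Ideal.Quotient.mk_surjective a
      exact Ideal.Quotient.eq_zero_iff_mem.mpr ((hKmem a).mpr fun i =>
        Ideal.Quotient.eq_zero_iff_mem.mp (ha i))
    let M' := (A ⧸ K) ⊗[A] M
    letI : Algebra (A ⧸ K) ((A ⧸ K) ⧸ J') := Ideal.Quotient.algebra _
    have hM' : Module.Flat ((A ⧸ K) ⧸ J') (((A ⧸ K) ⧸ J') ⊗[A ⧸ K] M') := by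
      let φ : A ⧸ J →+* (A ⧸ K) ⧸ J' := Ideal.Quotient.lift J (algebraMap A _) fun a ha => by
        rw [IsScalarTower.algebraMap_apply A (A ⧸ K) ((A ⧸ K) ⧸ J')]
        exact Ideal.Quotient.eq_zero_iff_mem.mpr (Ideal.mem_map_of_mem _ ha)
      letI := φ.toAlgebra
      haveI : IsScalarTower A (A ⧸ J) ((A ⧸ K) ⧸ J') := .of_algebraMap_eq fun a => rfl
      exact flat_baseChange_two (A := A) (A ⧸ K) (A ⧸ J) ((A ⧸ K) ⧸ J') M
    have hflat' : ∀ i, Module.Flat (C i) (C i ⊗[A ⧸ K] M') := fun i => by
      haveI := hflat i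
      exact flat_baseChange_two (A := A) (A ⧸ K) (B i) (C i) M
    haveI := ih (A ⧸ K) J' hJ' C hC M' hflat'
    exact H7Flat.flat_of_isNilpotent K hK2 hinj

/-- If `A` embeds into a finite product of algebras over which `M` becomes flat and `M` is flat
modulo a nilpotent ideal, then `M` is flat. -/
theorem flat_of_jointly_injective (J : Ideal A) (hJ : IsNilpotent J) {ι : Type u} [Finite ι]
    (B : ι → Type u) [∀ i, CommRing (B i)] [∀ i, Algebra A (B i)]
    (hB : ∀ a : A, (∀ i, algebraMap A (B i) a = 0) → a = 0)
    (M : Type u) [AddCommGroup M] [Module A M] [Module.Flat (A ⧸ J) ((A ⧸ J) ⊗[A] M)]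
    (hflat : ∀ i, Module.Flat (B i) (B i ⊗[A] M)) : Module.Flat A M := by
  obtain ⟨n, hn⟩ := hJ
  exact flat_of_jointly_injective_aux n A J
    (by rw [pow_succ, hn, Submodule.zero_eq_bot, Ideal.bot_mul]) B hB M hflat

end Groth.Agent.H06Flat
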